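import Cfsg.Agent.SimpleFacts.TitsTwoTransitive.Fusion
import Cfsg.Agent.Lib.PcMult.Split
import Cfsg.Agent.Lib.PcMult.Trivial

/-!
Checking the hypotheses of a multiplier certificate in the Tits group: the elements are lists of columns of
bits, obtained from the basic elements, and relations are compared on the basis vectors.
-/

set_option autoImplicit false

open scoped Matrix

namespace Cfsg.Agent.Lib.PcMult.Tits

open Cfsg.Lie Cfsg.Agent.Chevalley Cfsg.Agent.Chevalley.Eval Cfsg.Agent.Chevalley.Table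
  Cfsg.Agent.Exceptional Cfsg.Agent.Exceptional.Tits Cfsg.Agent.SimpleFacts.TitsTwoTransitive
  Cfsg.Agent.Lib.PcMult

/-- The vector moved by an element. -/
noncomputable def act (g : TT) (x : chevF4.Idx → K2) : chevF4.Idx → K2 :=
  ((((g : GG) : GL chevF4.Idx K2) : Matrix chevF4.Idx chevF4.Idx K2)) *ᵥ x

theorem act_one (x : chevF4.Idx → K2) : act 1 x = x := by simp [act]

theorem act_mul (a b : TT) (x : chevF4.Idx → K2) : act (a * b) x = act a (act b x) := by
  simp [act, Matrix.mulVec_mulVec]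

theorem vecAt_inj {u v : ℕ} (hu : u < 2 ^ 52) (hv : v < 2 ^ 52) (h : vecAt 0 u = vecAt 0 v) : u = v := by
  refine Nat.eq_of_testBit_eq fun b => ?_
  by_cases hb : b < 52
  · obtain ⟨i, rfl⟩ := exists_code chevF4 (j := b) (by rw [dim_eq]; exact hb)
    have h3 := congrFun h i
    simp only [vecAt, Nat.zero_le, true_and, Nat.sub_zero] at h3
    revert h3
    cases u.testBit (code chevF4 i) <;> cases v.testBit (code chevF4 i) <;> decide
  · rw [Nat.testBit_lt_two_pow (hu.trans_le (Nat.pow_le_pow_right (by norm_num) (by omega))),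
      Nat.testBit_lt_two_pow (hv.trans_le (Nat.pow_le_pow_right (by norm_num) (by omega)))]

theorem ext_basis {g g' : TT}
    (h : ∀ j < 52, act g (vecAt 0 (2 ^ j)) = act g' (vecAt 0 (2 ^ j))) : g = g' := by
  refine Subtype.ext (Subtype.ext (Units.ext (matrix_ext chevF4 fun j hj => ?_)))
  rw [dim_eq] at hj
  rw [← vecAt_two_pow]
  exact h j hj

/-- A list of columns is that of an element. -/
def Reals (L : List ℕ) : Prop := ∃ g : TT, ∀ v, act g (vecAt 0 v) = vecAt 0 (actM L v)

theorem of_basis {g : TT} {L : List ℕ} (hl : L.length = 52)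
    (h : ∀ j < 52, act g (vecAt 0 (2 ^ j)) = vecAt 0 (L.getD j 0)) : Reals L :=
  ⟨g, fun v => vecAt_actM L 0 (by omega) (fun j hj => by
    rw [zero_add, ← vecAt_two_pow]
    exact h j (hl ▸ hj)) v⟩

/-- The columns of a product of basic elements. -/
noncomputable def leafOK (w : List (Fin 4)) (L : List ℕ) : Bool :=
  Nat.beq L.length 52 && allR 52 fun j => Nat.beq (imgW w (2 ^ j)) (L.getD j 0)

theorem Reals.leaf (w : List (Fin 4)) {L : List ℕ}
    (hw : (w.countP fun i => decide (2 ≤ i.val)) % 2 = 0) (h : leafOK w L = true) : Reals L := by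
  simp only [leafOK, Bool.and_eq_true] at h
  refine of_basis (g := tel w hw) (Nat.eq_of_beq_eq_true h.1) fun j hj => ?_
  rw [act, coe_tel, coe_el, prod_vecAt, Nat.eq_of_beq_eq_true (of_allR h.2 j hj)]

/-- The columns of a product. -/
noncomputable def prodOK (A B C : List ℕ) : Bool :=
  Nat.beq C.length 52 && allR 52 fun j => Nat.beq (actM A (actM B (2 ^ j))) (C.getD j 0)

theorem Reals.prod {A B C : List ℕ} (hA : Reals A) (hB : Reals B) (h : prodOK A B C = true) : Reals C := by
  obtain ⟨a, ha⟩ := hA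
  obtain ⟨b, hb⟩ := hB
  simp only [prodOK, Bool.and_eq_true] at h
  refine of_basis (g := a * b) (Nat.eq_of_beq_eq_true h.1) fun j hj => ?_
  rw [act_mul, hb, ha, Nat.eq_of_beq_eq_true (of_allR h.2 j hj)]

/-- The columns of an inverse. -/
noncomputable def invOK (A C : List ℕ) : Bool :=
  Nat.beq C.length 52 && allR 52 fun j => Nat.beq (actM A (C.getD j 0)) (2 ^ j)

theorem Reals.inv {A C : List ℕ} (hA : Reals A) (h : invOK A C = true) : Reals C := by
  obtain ⟨a, ha⟩ := hA
  simp only [invOK, Bool.and_eq_true] at h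
  refine of_basis (g := a⁻¹) (Nat.eq_of_beq_eq_true h.1) fun j hj => ?_
  rw [← Nat.eq_of_beq_eq_true (of_allR h.2 j hj), ← ha, ← act_mul, inv_mul_cancel, act_one]

/-- All lists are those of elements. -/
def RealsL (Ls : List (List ℕ)) : Prop := ∀ L ∈ Ls, Reals L

theorem RealsL.nil : RealsL [] := fun q hq => absurd hq (by simp)

theorem RealsL.cons {L : List ℕ} {Ls : List (List ℕ)} (h : Reals L) (hs : RealsL Ls) : RealsL (L :: Ls) :=
  fun r hr => (List.mem_cons.mp hr).elim (fun e => e ▸ h) (hs r)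

/-- A certificate with columns for the letters and conjugators, and for each letter a vector and a set
closed under the later letters. -/
structure Data where
  C : Cert
  gc : List (List ℕ)
  hc : List (List ℕ)
  orbs : List (ℕ × List ℕ)

namespace Data

variable (D : Data)

/-- The image of a vector under a word. -/
noncomputable def evV : List ℕ → ℕ → ℕ
  | [], v => v
  | i :: l, v => force (actM (D.gc.getD i [])) (evV l v)

/-- The rules of one letter hold on the basis. -/
noncomputable def rulesAt (i : ℕ) : Bool :=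
  (allR 52 fun c => D.evV (List.replicate D.C.R.p i) (2 ^ c) == D.evV (D.C.R.pwWord i) (2 ^ c)) &&
    ((List.range' (i + 1) (D.C.R.n - (i + 1))).all fun j =>
      allR 52 fun c => D.evV [j, i] (2 ^ c) == D.evV (i :: D.C.R.cjWord i j) (2 ^ c))

/-- One conjugation holds on the basis. -/
noncomputable def fusAt (q : ℕ) : Bool :=
  (D.C.fus.getD q ([], [])).1.all fun ab => allR 52 fun c =>
    force (actM (D.hc.getD q [])) (D.evV ab.1 (2 ^ c)) == D.evV ab.2 (actM (D.hc.getD q []) (2 ^ c))

/-- The letters are in order and each one is new. -/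
noncomputable def checkNew : Bool :=
  (List.range D.C.R.n).all fun i =>
    ((D.C.R.pwWord i).all fun k => decide (i < k) && decide (k < D.C.R.n)) &&
    ((List.range' (i + 1) (D.C.R.n - (i + 1))).all fun j =>
      (D.C.R.cjWord i j).all fun k => decide (i < k) && decide (k < D.C.R.n)) &&
    ((D.orbs.getD i (0, [])).2.contains (D.orbs.getD i (0, [])).1) &&
    ((D.orbs.getD i (0, [])).2.all fun o => decide (o < 2 ^ 52)) &&
    ((List.range' (i + 1) (D.C.R.n - (i + 1))).all fun j => (D.orbs.getD i (0, [])).2.all fun o =>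
      (D.orbs.getD i (0, [])).2.contains (actM (D.gc.getD j []) o)) &&
    Nat.blt (actM (D.gc.getD i []) (D.orbs.getD i (0, [])).1) (2 ^ 52) &&
    !(D.orbs.getD i (0, [])).2.contains (actM (D.gc.getD i []) (D.orbs.getD i (0, [])).1)

/-- The shapes of the data. -/
def checkShape : Bool :=
  D.gc.length == D.C.R.n && D.hc.length == D.C.fus.length &&
    D.C.fus.all (fun qp => qp.1.all fun ab => (ab.1 ++ ab.2).all fun k => decide (k < D.C.R.n))

/-- An element with given columns. -/
noncomputable def pick (L : List ℕ) : TT :=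
  @dite _ (Reals L) (Classical.propDecidable _) (fun h => h.choose) fun _ => 1

theorem pick_spec {L : List ℕ} (h : Reals L) (v : ℕ) : act (pick L) (vecAt 0 v) = vecAt 0 (actM L v) := by
  rw [pick, dif_pos h]
  exact h.choose_spec v

/-- The letters. -/
noncomputable def g (i : ℕ) : TT := pick (D.gc.getD i [])

/-- The conjugators. -/
noncomputable def h (i : ℕ) : TT := pick (D.hc.getD i [])

theorem getD_mem {l : List (List ℕ)} {i : ℕ} (hi : i < l.length) : l.getD i [] ∈ l := by
  rw [List.getD_eq_getElem _ _ hi]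
  exact List.getElem_mem hi

theorem mem_range'_succ {i j n : ℕ} (hij : i < j) (hj : j < n) :
    j ∈ List.range' (i + 1) (n - (i + 1)) := by
  rw [List.mem_range'_1]
  omega

theorem allUpTo_succ {f : ℕ → Bool} {m : ℕ} (h : (List.range m).all f = true) (h' : f m = true) :
    (List.range (m + 1)).all f = true := by
  rw [List.range_succ, List.all_append, h]
  simp [h']

theorem word_apply (hg : ∀ i < D.C.R.n, Reals (D.gc.getD i [])) :
    ∀ l : List ℕ, (∀ i ∈ l, i < D.C.R.n) → ∀ v, act (W D.g l) (vecAt 0 v) = vecAt 0 (D.evV l v)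
  | [], _, v => by rw [W_nil, act_one]; rfl
  | i :: l, hl, v => by
    rw [W_cons, act_mul, word_apply hg l (fun k hk => hl k (List.mem_cons_of_mem _ hk)), evV, force_eq, g,
      pick_spec (hg i (hl i List.mem_cons_self))]

variable {D}

theorem real [Finite TT] (hgc : RealsL D.gc) (hhc : RealsL D.hc) (hS : D.checkShape = true)
    (hR : (List.range D.C.R.n).all D.rulesAt = true) (hF : (List.range D.C.fus.length).all D.fusAt = true)
    (hN : D.checkNew = true) :
    D.C.Real D.g D.h := by
  simp only [checkShape, Bool.and_eq_true, beq_iff_eq] at hS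
  obtain ⟨⟨hgl, hhl⟩, hB⟩ := hS
  have hg : ∀ i < D.C.R.n, Reals (D.gc.getD i []) := fun i hi => hgc _ (getD_mem (hgl ▸ hi))
  simp only [checkNew, Bool.and_eq_true, List.all_eq_true, List.mem_range, decide_eq_true_eq,
    Bool.not_eq_true', List.contains_eq_mem, decide_eq_false_iff_not] at hN
  simp only [List.all_eq_true, List.mem_range, rulesAt, Bool.and_eq_true] at hR
  have hmem : ∀ i < D.C.R.n, (∀ k ∈ D.C.R.pwWord i, i < k ∧ k < D.C.R.n) ∧
      ∀ j, i < j → j < D.C.R.n → ∀ k ∈ D.C.R.cjWord i j, i < k ∧ k < D.C.R.n := fun i hi =>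
    ⟨(hN i hi).1.1.1.1.1.1, fun j hij hj => (hN i hi).1.1.1.1.1.2 j (mem_range'_succ hij hj)⟩
  have eqW : ∀ l l' : List ℕ, (∀ i ∈ l, i < D.C.R.n) → (∀ i ∈ l', i < D.C.R.n) →
      (allR 52 fun c => D.evV l (2 ^ c) == D.evV l' (2 ^ c)) = true → W D.g l = W D.g l' :=
    fun l l' hl hl' h => ext_basis fun c hc => by
      rw [D.word_apply hg l hl, D.word_apply hg l' hl', eq_of_beq (of_allR h c hc)]
  refine ⟨fun i hi => ?_, fun i j hij hj => ?_, fun qp hqp ab hab => ?_, hmem, fun i hi => ?_⟩
  · have := eqW _ _ (fun k hk => (List.eq_of_mem_replicate hk) ▸ hi) (fun k hk => ((hmem i hi).1 k hk).2)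
      (hR i hi).1
    rwa [W_replicate] at this
  · have hi := hij.trans hj
    have := eqW [j, i] (i :: D.C.R.cjWord i j) (by simp [hi, hj]) (by
      simp only [List.mem_cons, forall_eq_or_imp]
      exact ⟨hi, fun k hk => ((hmem i hi).2 j hij hj k hk).2⟩) ((hR i hi).2 j (mem_range'_succ hij hj))
    simpa [W] using this
  · simp only [List.all_eq_true, List.mem_range, fusAt] at hF
    obtain ⟨⟨ps, rs⟩, q⟩ := qp
    obtain ⟨hq, eq⟩ := List.getElem?_eq_some_iff.1 (List.mem_zipIdx_iff_getElem?.1 hqp)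
    have e := hF q hq ab (by rw [List.getD_eq_getElem _ _ hq, eq]; exact hab)
    simp only [List.all_eq_true, decide_eq_true_eq, List.mem_append] at hB
    have hb := hB _ (List.mem_of_getElem eq) ab hab
    have hh : Reals (D.hc.getD q []) := hhc _ (getD_mem (hhl ▸ hq))
    refine ext_basis fun c hc => ?_
    rw [act_mul, act_mul, h, D.word_apply hg _ (fun k hk => hb k (Or.inl hk)), pick_spec hh, pick_spec hh,
      D.word_apply hg _ (fun k hk => hb k (Or.inr hk))]
    have e' := eq_of_beq (of_allR e c hc)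
    rw [force_eq] at e'
    rw [e']
  · obtain ⟨⟨⟨⟨⟨-, hb⟩, hlt⟩, hcl⟩, hlt'⟩, hout⟩ := hN i hi
    refine not_mem_closure act act_one act_mul ((D.orbs.getD i (0, [])).2.map (vecAt 0))
      (b := vecAt 0 (D.orbs.getD i (0, [])).1) (List.mem_map.2 ⟨_, hb, rfl⟩) ?_ ?_
    · rintro _ ⟨j, ⟨hij, hj⟩, rfl⟩ x hx
      obtain ⟨o, ho, rfl⟩ := List.mem_map.1 hx
      rw [g, pick_spec (hg j hj)]
      exact List.mem_map_of_mem (hcl j (mem_range'_succ hij hj) o ho)
    · intro hx
      obtain ⟨o, ho, e⟩ := List.mem_map.1 hx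
      rw [g, pick_spec (hg i hi)] at e
      exact hout (vecAt_inj (hlt o ho) (by simpa [Nat.blt] using hlt') e ▸ ho)

/-- A Sylow preimage splits. -/
theorem split_tits [Finite TT] {p : ℕ} [Fact p.Prime] (hp : D.C.R.p = p) {F : Type} {O : Ops F}
    (hO : ∀ (K : Type) [CommGroup K], (∀ z : K, z ^ D.C.R.p = 1) → ∀ τ : ℕ → K, ∃ ev, O.Valid D.C.R.p τ ev)
    (hC : D.C.check O = true)
    (hgc : RealsL D.gc) (hhc : RealsL D.hc) (hS : D.checkShape = true)
    (hR : (List.range D.C.R.n).all D.rulesAt = true) (hF : (List.range D.C.fus.length).all D.fusAt = true)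
    (hN : D.checkNew = true) (hcard : (Nat.card TT).factorization p = D.C.R.n)
    (Γ : Type) [Group Γ] [Finite Γ] (σ : Γ →* TT) (hc : σ.ker ≤ Subgroup.center Γ) (hσ : Function.Surjective σ)
    (hex : ∀ z, σ z = 1 → z ^ p = 1) (P : Sylow p Γ) :
    ⁅(P : Subgroup Γ), (P : Subgroup Γ)⁆ ⊓ σ.ker = ⊥ := by
  subst hp
  exact split (σ := σ) (Fact.out) hc hσ hex hO hC (D.real hgc hhc hS hR hF hN) hcard rfl P

end Data

end Cfsg.Agent.Lib.PcMult.Tits
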