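import Cfsg.Agent.Lib.PcMult.Tits.Elems3

/-!
Certificate for the prime 3.
-/

set_option autoImplicit false
set_option maxRecDepth 100000

namespace Cfsg.Agent.Lib.PcMult.Tits.P3

open Cfsg.Agent.Lib.PcMult

/-- The certificate. -/
def C : Cert where
  R :=
    { p := 3
      n := 3
      pw := [[0, 0, 0], [0, 0, 0], [0, 0, 0]]
      cj := [
    [[], [0, 1, 1], [0, 0, 1]],
    [[], [], [0, 0, 1]],
    [[], [], []]] }
  ovl := [
    ([1, 1], [1, 0], [])]
  fus := [
    ([([0], [2]), ([2], [0, 0, 2, 2])], [([0, 0, 0], [])]),
    ([([1], [2, 2]), ([2], [1, 1])], [([0, 0, 0], [])]),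
    ([([0], [0, 0, 2]), ([1], [1, 1]), ([2], [2])], [([2, 1], [1, 2]), ([2, 0], [0, 2])])]
  shift := [[], [], [1]]
  combs := [
    [1, 2],
    [],
    [0, 0, 0, 0, 1],
    [2, 0, 2],
    [0, 0, 0, 1],
    [1]]

/-- The data. -/
def D : Data where
  C := C
  gc := [c1933, c1939, c1943]
  hc := [c1948, c1952, c1954]
  orbs := [(16, [16, 71881771955939, 1621116855562260, 2093040148536045, 2043301034034367, 2043601388846002, 2090317006992338, 3131535955854101, 4145781979872920]), (16, [16, 2093040148536045, 2090317006992338]), (16, [16])]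

theorem gc : RealsL D.gc := (RealsL.cons r1933 (RealsL.cons r1939 (RealsL.cons r1943 RealsL.nil)))

theorem hc : RealsL D.hc := (RealsL.cons r1948 (RealsL.cons r1952 (RealsL.cons r1954 RealsL.nil)))

theorem cert : C.check (vecOps 3) = true := by decide +kernel

theorem shape : D.checkShape = true := by decide +kernel

theorem rule0 : D.rulesAt 0 = true := by decide +kernel

theorem rule1 : D.rulesAt 1 = true := by decide +kernel

theorem rule2 : D.rulesAt 2 = true := by decide +kernel

theorem ruleall : (List.range D.C.R.n).all D.rulesAt = true :=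
  (congrArg (fun m => (List.range m).all D.rulesAt) (show D.C.R.n = 3 from rfl)).trans (Data.allUpTo_succ (Data.allUpTo_succ (Data.allUpTo_succ (rfl : (List.range 0).all D.rulesAt = true) rule0) rule1) rule2)

theorem fus0 : D.fusAt 0 = true := by decide +kernel

theorem fus1 : D.fusAt 1 = true := by decide +kernel

theorem fus2 : D.fusAt 2 = true := by decide +kernel

theorem fusall : (List.range D.C.fus.length).all D.fusAt = true :=
  (congrArg (fun m => (List.range m).all D.fusAt) (show D.C.fus.length = 3 from rfl)).trans (Data.allUpTo_succ (Data.allUpTo_succ (Data.allUpTo_succ (rfl : (List.range 0).all D.fusAt = true) fus0) fus1) fus2)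

theorem news : D.checkNew = true := by decide +kernel

end Cfsg.Agent.Lib.PcMult.Tits.P3
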