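import Cfsg.Agent.Lib.PcMult.Tits.Elems3

/-!
Certificate for the prime 5.
-/

set_option autoImplicit false
set_option maxRecDepth 100000

namespace Cfsg.Agent.Lib.PcMult.Tits.P5

open Cfsg.Agent.Lib.PcMult

/-- The certificate. -/
def C : Cert where
  R :=
    { p := 5
      n := 2
      pw := [[0, 0], [0, 0]]
      cj := [
    [[], [0, 1]],
    [[], []]] }
  ovl := [
]
  fus := [
    ([([0], [1, 1, 1]), ([1], [0, 0])], [([1, 1, 1, 1, 1], [])]),
    ([([0], [1]), ([1], [0])], [([0, 0, 0, 0, 0], []), ([1, 0], [0, 1])])]
  shift := [[], []]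
  combs := [
    [1, 1],
    [0, 0, 2],
    [1, 2]]

/-- The data. -/
def D : Data where
  C := C
  gc := [c1915, c1919]
  hc := [c1924, c1927]
  orbs := [(3700560, [3700560]), (16, [16])]

theorem gc : RealsL D.gc := (RealsL.cons r1915 (RealsL.cons r1919 RealsL.nil))

theorem hc : RealsL D.hc := (RealsL.cons r1924 (RealsL.cons r1927 RealsL.nil))

theorem cert : C.check (vecOps 5) = true := by decide +kernel

theorem shape : D.checkShape = true := by decide +kernel

theorem rule0 : D.rulesAt 0 = true := by decide +kernel

theorem rule1 : D.rulesAt 1 = true := by decide +kernel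

theorem ruleall : (List.range D.C.R.n).all D.rulesAt = true :=
  (congrArg (fun m => (List.range m).all D.rulesAt) (show D.C.R.n = 2 from rfl)).trans (Data.allUpTo_succ (Data.allUpTo_succ (rfl : (List.range 0).all D.rulesAt = true) rule0) rule1)

theorem fus0 : D.fusAt 0 = true := by decide +kernel

theorem fus1 : D.fusAt 1 = true := by decide +kernel

theorem fusall : (List.range D.C.fus.length).all D.fusAt = true :=
  (congrArg (fun m => (List.range m).all D.fusAt) (show D.C.fus.length = 2 from rfl)).trans (Data.allUpTo_succ (Data.allUpTo_succ (rfl : (List.range 0).all D.fusAt = true) fus0) fus1)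

theorem news : D.checkNew = true := by decide +kernel

end Cfsg.Agent.Lib.PcMult.Tits.P5
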