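import Cfsg.Agent.Lib.PcMult.Tits.Data2
import Cfsg.Agent.Lib.PcMult.Tits.Data3
import Cfsg.Agent.Lib.PcMult.Tits.Data5

/-!
The Tits group has trivial multiplier.
-/

set_option autoImplicit false

namespace Cfsg.Agent.Lib.PcMult.Tits

open Cfsg.Agent.Exceptional.Tits Cfsg.Agent.SimpleFacts.TitsTwoTransitive Cfsg.Agent.Lib.PcMult

theorem trivial_multiplier : Cfsg.HasCyclicSchurMultiplier TT 1 := by
  haveI : Finite TT := Nat.finite_of_card_ne_zero (by rw [card_commutator]; norm_num)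
  refine trivial_of_exp fun p hp hdvd Γ _ _ σ hc hσ hex P => ?_
  rw [card_commutator] at hdvd
  have hpp := hp.out
  have hfac : ∀ q k m : ℕ, q.Prime → 17971200 = q ^ k * m → ¬ q ∣ m →
      (Nat.card TT).factorization q = k := by
    intro q k m hq e hm
    have hm0 : m ≠ 0 := by rintro rfl; simp at e
    rw [card_commutator, e, Nat.factorization_mul (pow_ne_zero _ hq.ne_zero) hm0, Finsupp.add_apply,
      Nat.Prime.factorization_pow hq, Nat.factorization_eq_zero_of_not_dvd hm, Finsupp.single_eq_same, add_zero]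
  have hple : p = 2 ∨ p = 3 ∨ p = 5 := by
    have h1 : p ∣ 2 ^ 11 * 3 ^ 3 * 5 ^ 2 * 13 :=
      ((dvd_pow_self p two_ne_zero).trans hdvd).trans (by norm_num)
    rcases (Nat.Prime.dvd_mul hpp).1 h1 with h | h
    · rcases (Nat.Prime.dvd_mul hpp).1 h with h | h
      · rcases (Nat.Prime.dvd_mul hpp).1 h with h | h
        · exact Or.inl ((Nat.prime_dvd_prime_iff_eq hpp Nat.prime_two).1 (hpp.dvd_of_dvd_pow h))
        · exact Or.inr (Or.inl ((Nat.prime_dvd_prime_iff_eq hpp Nat.prime_three).1 (hpp.dvd_of_dvd_pow h)))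
      · exact Or.inr (Or.inr ((Nat.prime_dvd_prime_iff_eq hpp (by norm_num)).1 (hpp.dvd_of_dvd_pow h)))
    · exfalso
      rw [(Nat.prime_dvd_prime_iff_eq hpp (by norm_num : Nat.Prime 13)).1 h] at hdvd
      norm_num at hdvd
  rcases hple with rfl | rfl | rfl
  · exact Data.split_tits (D := P2.D) (p := 2) rfl (fun K _ h τ => ⟨_, bitOps_valid h τ⟩) P2.cert P2.gc P2.hc
      P2.shape P2.ruleall P2.fusall P2.news (hfac 2 11 8775 hpp (by norm_num) (by norm_num)) Γ σ hc hσ hex P
  · exact Data.split_tits (D := P3.D) (p := 3) rfl (fun K _ h τ => ⟨_, vecOps_valid h τ⟩) P3.cert P3.gc P3.hc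
      P3.shape P3.ruleall P3.fusall P3.news (hfac 3 3 665600 hpp (by norm_num) (by norm_num)) Γ σ hc hσ hex P
  · exact Data.split_tits (D := P5.D) (p := 5) rfl (fun K _ h τ => ⟨_, vecOps_valid h τ⟩) P5.cert P5.gc P5.hc
      P5.shape P5.ruleall P5.fusall P5.news (hfac 5 2 718848 hpp (by norm_num) (by norm_num)) Γ σ hc hσ hex P

end Cfsg.Agent.Lib.PcMult.Tits
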